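set_option autoImplicit false
namespace Cfsg.Agent.Lib.Helper6.TCD.SuzU3
noncomputable def WDL0 (i : Nat) : Nat := Nat.land (Nat.shiftRight 0x23232323232323231032323232323232321000000000000013130400000000000031310400000000001212120600000000002121210600000000000003030400000000000030300400000000000002020400000000000020200400000001010101010a00000010101010100a000000000000003302000000000000002202000000000000001102000000000000000002 (Nat.mul 72 (Nat.land i 15))) 4722366482869645213695
noncomputable def WDL1 (i : Nat) : Nat := Nat.land (Nat.shiftRight 0x32323203209000000023232032309000000032320323209000000023203232309000000032032323209000000020323232309000000003232323209000000032323230209000000023232302309000000032323023209000000023230232309000000032302323209000000023023232309000000030232323209000000002323232309000000023232323009 (Nat.mul 72 (Nat.land i 15))) 4722366482869645213695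
noncomputable def WDP0N0 (i : Nat) : Nat := Bool.rec (WDL0 i) (WDL1 i) (Nat.ble 16 i)
noncomputable def WDL2 (i : Nat) : Nat := Nat.land (Nat.shiftRight 0x301000000000000000101000000000000000001000000032323232009000000023232320309 (Nat.mul 72 (Nat.land i 15))) 4722366482869645213695
noncomputable def WD (i : Nat) : Nat := Bool.rec (WDP0N0 i) (WDL2 i) (Nat.ble 32 i)
end Cfsg.Agent.Lib.Helper6.TCD.SuzU3
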