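set_option autoImplicit false
namespace Cfsg.Agent.Lib.Helper6.TCD.SuzU3
noncomputable def WI (i : Nat) : Nat := Nat.land (Nat.shiftRight 0x21015070a83054142a0815030a81054042a0014080a0385018280a14040a0185008280214000a0084800240210000800838001c020c00060082800140208000400018000800020000 (Nat.mul 17 (Nat.land i 255))) 131071
end Cfsg.Agent.Lib.Helper6.TCD.SuzU3
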